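import Cfsg.Agent.GroupBasics.Conjugates
import Cfsg.Agent.LocalStructure.Elements
import Cfsg.Agent.TwoSizes69.Basic
import Cfsg.Agent.Coprime.Action
import Cfsg.Agent.Solvable.Fitting

/-!
Two non-central `p`-elements with coprime class sizes: some element of order divisible by `p` has
class size sharing a prime with both.
-/

open scoped commutatorElement

namespace CfsgLib.SingularClassGraph

variable {G : Type*} [Group G]


theorem mem_cent {x y : G} : y ∈ Subgroup.centralizer ({x} : Set G) ↔ y * x = x * y :=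
  Subgroup.mem_centralizer_singleton_iff

theorem conj_eq_of_mem_cent {x y : G} (h : y ∈ Subgroup.centralizer ({x} : Set G)) :
    y * x * y⁻¹ = x :=
  mul_inv_eq_iff_eq_mul.mpr (mem_cent.mp h)

variable [Finite G]

/-- Subgroups of coprime index factorize the group. -/
theorem exists_mul_of_coprime_index {H K : Subgroup G} (hcop : H.index.Coprime K.index) (g : G) :
    ∃ a ∈ H, ∃ b ∈ K, g = a * b := by
  have horb : MulAction.orbit H ((1 : G) : G ⧸ K) = Set.univ := by
    refine Set.eq_univ_of_forall fun z => ?_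
    by_contra hz
    have hst : MulAction.stabilizer H ((1 : G) : G ⧸ K) = K.subgroupOf H := by
      ext a
      rw [MulAction.mem_stabilizer_iff, Subgroup.mem_subgroupOf]
      show (a : G) • ((1 : G) : G ⧸ K) = _ ↔ _
      rw [MulAction.Quotient.smul_coe, QuotientGroup.eq, smul_eq_mul, mul_one, mul_one,
        Subgroup.inv_mem_iff]
    have hcard : (MulAction.orbit H ((1 : G) : G ⧸ K)).ncard = K.relIndex H := by
      rw [← MulAction.index_stabilizer, hst, Subgroup.relIndex]
    have hdvd : K.index ∣ K.relIndex H := by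
      refine Nat.Coprime.dvd_of_dvd_mul_right hcop.symm ?_
      have h1 := Subgroup.relIndex_mul_index (inf_le_left : H ⊓ K ≤ H)
      rw [Subgroup.inf_relIndex_left] at h1
      exact h1 ▸ Subgroup.index_dvd_of_le inf_le_right
    have hpos : 0 < K.relIndex H := by
      rw [← hcard]
      exact (Set.ncard_pos).mpr ⟨_, MulAction.mem_orbit_self _⟩
    have hlt := Set.ncard_lt_card (s := MulAction.orbit H ((1 : G) : G ⧸ K))
      fun h => hz (h ▸ Set.mem_univ z)
    rw [hcard] at hlt
    exact absurd (Nat.le_of_dvd hpos hdvd) (not_le.mpr hlt)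
  obtain ⟨⟨a, ha⟩, h⟩ := horb.ge (Set.mem_univ (g : G ⧸ K))
  change ((a * 1 : G) : G ⧸ K) = g at h
  rw [mul_one] at h
  exact ⟨a, ha, a⁻¹ * g, QuotientGroup.eq.mp h, by group⟩

/-- A pair of conjugates is conjugate to the pair. -/
theorem exists_conj_pair {u v : G}
    (hcop : (Subgroup.centralizer ({u} : Set G)).index.Coprime
      (Subgroup.centralizer ({v} : Set G)).index) (g h : G) :
    ∃ e, e * u * e⁻¹ = g * u * g⁻¹ ∧ e * v * e⁻¹ = h * v * h⁻¹ := by
  obtain ⟨a, ha, b, hb, hab⟩ := exists_mul_of_coprime_index hcop (g⁻¹ * h)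
  refine ⟨g * a, ?_, ?_⟩
  · rw [show g * a * u * (g * a)⁻¹ = g * (a * u * a⁻¹) * g⁻¹ by group, conj_eq_of_mem_cent ha]
  · rw [show h = g * a * b by rw [mul_assoc, ← hab]; group,
      show g * a * b * v * (g * a * b)⁻¹ = g * a * (b * v * b⁻¹) * (g * a)⁻¹ by group,
      conj_eq_of_mem_cent hb]

/-- If the class size of `u v` is prime to that of `u`, left multiplication by `u⁻¹ u^g` permutes
the class of `v`. -/
theorem exists_conj_mul_eq {u v : G}
    (hcop : (Subgroup.centralizer ({u} : Set G)).index.Coprime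
      (Subgroup.centralizer ({v} : Set G)).index)
    (huv : (Subgroup.centralizer ({u} : Set G)).index.Coprime
      (Subgroup.centralizer ({u * v} : Set G)).index) (g h : G) :
    ∃ k ∈ Subgroup.centralizer ({u} : Set G),
      u⁻¹ * (g * u * g⁻¹) * (h * v * h⁻¹) = k * v * k⁻¹ := by
  obtain ⟨e, he, he'⟩ := exists_conj_pair hcop g h
  obtain ⟨a, ha, b, hb, hab⟩ := exists_mul_of_coprime_index huv e
  refine ⟨a, ha, ?_⟩
  have h1 : e * (u * v) * e⁻¹ = u * (a * v * a⁻¹) := by
    rw [hab, show a * b * (u * v) * (a * b)⁻¹ = a * (b * (u * v) * b⁻¹) * a⁻¹ by group,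
      conj_eq_of_mem_cent hb, show a * (u * v) * a⁻¹ = (a * u * a⁻¹) * (a * v * a⁻¹) by group,
      conj_eq_of_mem_cent ha]
  rw [mul_assoc, ← he, ← he', show e * u * e⁻¹ * (e * v * e⁻¹) = e * (u * v) * e⁻¹ by group, h1,
    inv_mul_cancel_left]

variable {p : ℕ} [hp : Fact p.Prime]

/-- The displacement has `p`-power order. -/
theorem exists_pow_eq_one_of_mul_eq {u v m : G}
    (hcop : (Subgroup.centralizer ({u} : Set G)).index.Coprime
      (Subgroup.centralizer ({v} : Set G)).index) (hc : Commute u v) {g k : G}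
    (hm : m = u⁻¹ * (g * u * g⁻¹)) (hk : m * v = k * v * k⁻¹) {i : ℕ} (hv : v ^ p ^ i = 1) :
    m ^ p ^ i = 1 := by
  obtain ⟨e, he, he'⟩ := exists_conj_pair hcop g 1
  rw [inv_one, mul_one, one_mul] at he'
  have h1 : Commute (g * u * g⁻¹) v := by
    rw [← he, ← he']
    exact (commute_iff_eq _ _).mpr (by
      rw [show e * u * e⁻¹ * (e * v * e⁻¹) = e * (u * v) * e⁻¹ by group, hc.eq]
      group)
  have h2 : Commute m v := by
    rw [hm]; exact hc.inv_left.mul_left h1
  have hk' : Commute (k * v * k⁻¹) v := hk ▸ h2.mul_left (Commute.refl v)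
  have : m = k * v * k⁻¹ * v⁻¹ := by rw [← hk, mul_inv_cancel_right]
  rw [this, hk'.inv_right.mul_pow, inv_pow, hv, ← MulAut.conj_apply, ← map_pow, hv, map_one]
  simp

/-- If the class size of `u v` is prime to that of `u` and that of `v` is prime to `p`, then `u` is
central. -/
theorem eq_conj_of_not_dvd {u v : G}
    (hcop : (Subgroup.centralizer ({u} : Set G)).index.Coprime
      (Subgroup.centralizer ({v} : Set G)).index)
    (huv : (Subgroup.centralizer ({u} : Set G)).index.Coprime
      (Subgroup.centralizer ({u * v} : Set G)).index)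
    (hc : Commute u v) {i : ℕ} (hv : v ^ p ^ i = 1)
    (hpv : ¬ p ∣ (Subgroup.centralizer ({v} : Set G)).index) (g : G) : g * u * g⁻¹ = u := by
  classical
  set m := u⁻¹ * (g * u * g⁻¹) with hm
  obtain ⟨k, -, hk⟩ := exists_conj_mul_eq hcop huv g 1
  rw [one_mul, inv_one, mul_one, ← hm] at hk
  have hpow := exists_pow_eq_one_of_mul_eq hcop hc hm hk hv
  let S := (ConjClasses.mk v).carrier
  have hS : ∀ x ∈ S, m * x ∈ S := by
    intro x hx
    rw [ConjClasses.mem_carrier_iff_mk_eq, ConjClasses.mk_eq_mk_iff_isConj, isConj_comm, isConj_iff] at hx ⊢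
    obtain ⟨h, rfl⟩ := hx
    obtain ⟨k, -, hk⟩ := exists_conj_mul_eq hcop huv g h
    exact ⟨k, hk.symm⟩
  let f : S → S := fun x => ⟨m * x, hS x x.2⟩
  have hf : Function.Bijective f := Finite.injective_iff_bijective.mp fun x y hxy =>
    Subtype.ext (mul_left_cancel (congrArg Subtype.val hxy))
  let σ : Equiv.Perm S := Equiv.ofBijective f hf
  have hσ : ∀ (n : ℕ) (x : S), ((σ ^ n) x : G) = m ^ n * x := by
    intro n
    induction n with
    | zero => simp
    | succ n ih =>
      intro x
      rw [pow_succ', Equiv.Perm.mul_apply, pow_succ', mul_assoc, ← ih]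
      rfl
  have : Fintype S := Fintype.ofFinite S
  have hScard : ¬ p ∣ Fintype.card S := by
    rw [← Nat.card_eq_fintype_card, Nat.card_coe_set_eq,
      CfsgLib.GroupBasics.card_carrier_eq_index_centralizer]
    exact hpv
  obtain ⟨x, hx⟩ := Equiv.Perm.exists_fixed_point_of_prime (p := p) (n := i) hScard
    (σ := σ) (Equiv.ext fun x => Subtype.ext (by rw [hσ, hpow, one_mul]; rfl))
  have h1 : m * (x : G) = x := congrArg Subtype.val hx
  rw [mul_eq_right] at h1
  rw [hm, inv_mul_eq_one] at h1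
  exact h1.symm

/-- The set-up of a hypothetical counterexample, with commuting elements. -/
theorem false_of_isolated {u v : G} (P : Sylow p G) (huP : (P : Subgroup G) ≤ Subgroup.centralizer ({u} : Set G))
    (hu : u ∈ (P : Subgroup G)) (hv : v ∈ (P : Subgroup G))
    (hu1 : 1 < (Subgroup.centralizer ({u} : Set G)).index)
    (hv1 : 1 < (Subgroup.centralizer ({v} : Set G)).index)
    (hcop : (Subgroup.centralizer ({u} : Set G)).index.Coprime
      (Subgroup.centralizer ({v} : Set G)).index)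
    (H : ∀ w : G, p ∣ orderOf w →
      (Subgroup.centralizer ({w} : Set G)).index.Coprime (Subgroup.centralizer ({u} : Set G)).index ∨
      (Subgroup.centralizer ({w} : Set G)).index.Coprime (Subgroup.centralizer ({v} : Set G)).index) :
    False := by
  classical
  let n : G → ℕ := fun x => (Subgroup.centralizer ({x} : Set G)).index
  have hpu : ¬ p ∣ n u := fun h =>
    P.not_dvd_index (h.trans (Subgroup.index_dvd_of_le huP))
  have hpel : ∀ x ∈ (P : Subgroup G), ∃ i : ℕ, x ^ p ^ i = 1 := fun x hx => by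
    obtain ⟨i, hi⟩ := P.isPGroup' ⟨x, hx⟩
    exact ⟨i, congrArg Subtype.val hi⟩
  have hord : ∀ x : G, x ≠ 1 → (∃ i : ℕ, x ^ p ^ i = 1) → p ∣ orderOf x := by
    rintro x hx ⟨i, hi⟩
    obtain ⟨j, -, hj⟩ := (Nat.dvd_prime_pow hp.out).mp (orderOf_dvd_of_pow_eq_one hi)
    rcases Nat.eq_zero_or_pos j with h0 | h0
    · exact absurd (orderOf_eq_one_iff.mp (by rw [hj, h0, pow_zero])) hx
    · exact hj ▸ dvd_pow_self p h0.ne'
  have hnoncentral : ∀ x : G, 1 < n x → ∃ g, g * x * g⁻¹ ≠ x := by
    intro x hx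
    by_contra! h
    have : Subgroup.centralizer ({x} : Set G) = ⊤ := eq_top_iff.mpr fun g _ =>
      mem_cent.mpr (mul_inv_eq_iff_eq_mul.mp (h g))
    simp only [n, this, Subgroup.index_top, lt_irrefl] at hx
  have hc : Commute u v := (mem_cent.mp (huP hv)).symm
  have huv : u * v ≠ 1 := fun h => by
    rw [mul_eq_one_iff_eq_inv'] at h
    have : Subgroup.centralizer ({v} : Set G) = Subgroup.centralizer ({u} : Set G) := by
      ext y
      rw [mem_cent, mem_cent, h]
      exact ⟨fun h => by simpa using (show Commute y u⁻¹ from h).inv_right.eq,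
        fun h => (show Commute y u from h).inv_right.eq⟩
    rw [this, Nat.coprime_self] at hcop
    omega
  obtain ⟨iu, hiu⟩ := hpel u hu
  obtain ⟨iv, hiv⟩ := hpel v hv
  have hsing : p ∣ orderOf (u * v) := hord _ huv (hpel _ (mul_mem hu hv))
  have hB : (n u).Coprime (n (u * v)) := by
    rcases H _ hsing with h | h
    · exact h.symm
    · exfalso
      obtain ⟨g, hg⟩ := hnoncentral v hv1
      refine hg (eq_conj_of_not_dvd (p := p) hcop.symm ?_ hc.symm hiu hpu g)
      rw [← hc.eq]
      exact h.symm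
  have hpv : p ∣ n v := by
    by_contra h
    obtain ⟨g, hg⟩ := hnoncentral u hu1
    exact hg (eq_conj_of_not_dvd (p := p) hcop hB hc hiv h g)
  have hstar : ∀ w : G, p ∣ orderOf w → p ∣ n w → (n w).Coprime (n u) := fun w hw hpw =>
    (H w hw).resolve_right fun h => hp.out.ne_one (Nat.eq_one_of_dvd_coprimes h hpw hpv)
  set P0 := (P : Subgroup G) with hP0
  -- `C(u) ≤ P C(P)`
  set U := Subgroup.centralizer ({u} : Set G) with hU
  set K := P0 ⊔ Subgroup.centralizer (P0 : Set G) with hK
  have hUK : U ≤ K := by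
    rw [← Subgroup.subgroupOf_eq_top]
    refine CfsgLib.GroupBasics.eq_top_of_forall_conj_mem fun y => ?_
    obtain ⟨a, b, ha, hb, ⟨i, hai⟩, hbp, hab⟩ :=
      CfsgLib.LocalStructure.exists_pPart_mul (p := p) (y : G)
    have haU : a ∈ U := Subgroup.zpowers_le.mpr y.2 ha
    have hbU : b ∈ U := Subgroup.zpowers_le.mpr y.2 hb
    have hub : Commute u b := (mem_cent.mp hbU).symm
    have hcopub : (orderOf u).Coprime (orderOf b) := by
      refine Nat.Coprime.coprime_dvd_left (orderOf_dvd_of_pow_eq_one hiu) ?_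
      exact (Nat.Coprime.pow_left _ hbp.symm)
    have hu_mem : u ∈ Subgroup.zpowers (u * b) := by
      refine CfsgLib.PTools69.mem_of_pow_mem (n := orderOf b) hcopub.symm ⟨orderOf b, ?_⟩
      simp only [zpow_natCast]
      rw [hub.mul_pow, pow_orderOf_eq_one b, mul_one]
    have hb_mem : b ∈ Subgroup.zpowers (u * b) := by
      have := mul_mem (inv_mem hu_mem) (Subgroup.mem_zpowers (u * b))
      rwa [inv_mul_cancel_left] at this
    set D := Subgroup.centralizer ({u * b} : Set G) with hD
    have hDle : ∀ z ∈ Subgroup.zpowers (u * b), D ≤ Subgroup.centralizer ({z} : Set G) := by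
      intro z hz d hd
      obtain ⟨j, rfl⟩ := Subgroup.mem_zpowers_iff.mp hz
      exact mem_cent.mpr ((show Commute d (u * b) from mem_cent.mp hd).zpow_right j).eq
    have hDU : D ≤ U := hDle u hu_mem
    have hpD : ¬ p ∣ D.index := by
      intro h
      have hs : p ∣ orderOf (u * b) := by
        rw [hub.orderOf_mul_eq_mul_orderOf_of_coprime hcopub]
        refine Dvd.dvd.mul_right (hord u (fun e => ?_) ⟨iu, hiu⟩) _
        obtain ⟨g, hg⟩ := hnoncentral u hu1
        simp [e] at hg
      exact (lt_irrefl 1) ((Nat.eq_one_of_dvd_coprimes (hstar _ hs h)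
        (Subgroup.index_dvd_of_le hDU) dvd_rfl) ▸ hu1)
    have hcomm : Commute a b := by
      obtain ⟨j, rfl⟩ := Subgroup.mem_zpowers_iff.mp ha
      obtain ⟨l, rfl⟩ := Subgroup.mem_zpowers_iff.mp hb
      exact Commute.zpow_zpow (Commute.refl _) _ _
    have haD : a ∈ D := mem_cent.mpr
      ((show Commute a u from mem_cent.mp haU).mul_right hcomm).eq
    obtain ⟨S, haS, hSD⟩ := CfsgLib.GroupBasics.exists_sylow_le hpD
      (CfsgLib.TwoSizes69.isPGroup_zpowers (r := p) ⟨i, by rw [← hai, pow_orderOf_eq_one]⟩)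
      (Subgroup.zpowers_le.mpr haD)
    obtain ⟨c, hc⟩ := MulAction.exists_smul_eq U (S.subtype (hSD.trans hDU)) (P.subtype huP)
    have hconj : ∀ z ∈ (S : Subgroup G), (c : G) * z * (c : G)⁻¹ ∈ P0 := by
      intro z hz
      have h := congrArg (fun Q : Sylow p U => (Q : Subgroup U)) hc
      simp only [Sylow.coe_subgroup_smul, Sylow.coe_subtype] at h
      have hm : MulAut.conj c ⟨z, hDU (hSD hz)⟩ ∈ P0.subgroupOf U :=
        h.le (Subgroup.smul_mem_pointwise_smul _ _ _ hz)
      exact hm
    have hconj' : ∀ z ∈ P0, (c : G)⁻¹ * z * c ∈ (S : Subgroup G) := by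
      have hle : P0 ≤ (S : Subgroup G).map (MulAut.conj (c : G) : G →* G) := by
        refine (Subgroup.eq_of_le_of_card_ge ?_ ?_).ge
        · rintro _ ⟨z, hz, rfl⟩
          exact hconj z hz
        · rw [Subgroup.card_map_of_injective (MulAut.conj (c : G)).injective, S.card_eq_multiplicity,
            P.card_eq_multiplicity]
      intro z hz
      obtain ⟨s, hs, rfl⟩ := hle hz
      simp [mul_assoc]
      exact hs
    refine ⟨c, ?_⟩
    rw [Subgroup.mem_subgroupOf, Subgroup.coe_mul, Subgroup.coe_mul, Subgroup.coe_inv,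
      show (y : G) = a * b from hab.symm,
      show (c : G) * (a * b) * (c : G)⁻¹ = (c * a * (c : G)⁻¹) * (c * b * (c : G)⁻¹) by group]
    refine mul_mem (le_sup_left (b := Subgroup.centralizer (P0 : Set G))
      (hconj a (haS (Subgroup.mem_zpowers a)))) (le_sup_right (a := P0) ?_)
    rw [Subgroup.mem_centralizer_iff]
    intro z hz
    have h1 : Commute ((c : G)⁻¹ * z * c) b := mem_cent.mp (hDle b hb_mem (hSD (hconj' z hz)))
    have h2 := congrArg (fun y => (c : G) * y * (c : G)⁻¹) h1.eq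
    simpa [mul_assoc] using h2
  -- classes of elements of `P` with class size divisible by `p`
  have hclass : ∀ x ∈ P0, p ∣ n x → ∀ g : G, ∃ d ∈ P0, g * x * g⁻¹ = d * x * d⁻¹ := by
    intro x hx hpx g
    have hx1 : x ≠ 1 := by
      rintro rfl
      have : Subgroup.centralizer ({(1 : G)} : Set G) = ⊤ :=
        eq_top_iff.mpr fun g _ => mem_cent.mpr (by simp)
      simp only [n, this, Subgroup.index_top] at hpx
      exact hp.out.ne_one (Nat.dvd_one.mp hpx)
    obtain ⟨a, ha, b, hb, rfl⟩ :=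
      exists_mul_of_coprime_index (hstar x (hord x hx1 (hpel x hx)) hpx).symm g
    obtain ⟨d, hd, e, he, rfl⟩ := CfsgLib.Coprime.exists_mul_of_mem_sup
      (Subgroup.centralizer_le_normalizer _) (hUK ha)
    refine ⟨d, hd, ?_⟩
    have he' : e * x * e⁻¹ = x :=
      mul_inv_eq_iff_eq_mul.mpr (Subgroup.mem_centralizer_iff.mp he x hx).symm
    rw [show d * e * b * x * (d * e * b)⁻¹ = d * (e * (b * x * b⁻¹) * e⁻¹) * d⁻¹ by group,
      conj_eq_of_mem_cent hb, he']
  have hcore : ∀ x ∈ P0, p ∣ n x → x ∈ Cfsg.pCore p G := by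
    intro x hx hpx
    have hle : Subgroup.normalClosure ({x} : Set G) ≤ P0 := by
      refine (Subgroup.closure_le _).mpr fun z hz => ?_
      obtain ⟨y, hy, hyz⟩ := Group.mem_conjugatesOfSet_iff.mp hz
      rw [Set.mem_singleton_iff] at hy
      subst hy
      obtain ⟨g, rfl⟩ := isConj_iff.mp hyz
      obtain ⟨d, hd, he⟩ := hclass y hx hpx g
      rw [he]
      exact mul_mem (mul_mem hd hx) (inv_mem hd)
    exact CfsgLib.Solvable.le_pCore (P.isPGroup'.to_le hle)
      (Subgroup.subset_normalClosure (Set.mem_singleton x))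
  -- `P` is normal
  have hPn : P0.Normal := by
    have hall : ∀ y ∈ P0, y ∈ Cfsg.pCore p G ∨ y ∈ Subgroup.centralizer ({v} : Set G) := by
      intro y hy
      by_cases hpy : p ∣ n y
      · exact Or.inl (hcore y hy hpy)
      · refine Or.inr ?_
        obtain ⟨S, -, hS⟩ := CfsgLib.GroupBasics.exists_sylow_le (p := p) hpy IsPGroup.of_bot bot_le
        have := hS (CfsgLib.Solvable.pCore_le_sylow S (hcore v hv hpv))
        exact mem_cent.mpr (mem_cent.mp this).symm
    have hPO : P0 ≤ Cfsg.pCore p G := by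
      by_contra hne
      obtain ⟨a, ha, haO⟩ := SetLike.not_le_iff_exists.mp hne
      obtain ⟨b, hb, hbC⟩ := SetLike.not_le_iff_exists.mp fun h : P0 ≤ Subgroup.centralizer ({v} : Set G) =>
        P.not_dvd_index (hpv.trans (Subgroup.index_dvd_of_le h))
      have haC := (hall a ha).resolve_left haO
      have hbO := (hall b hb).resolve_right hbC
      rcases hall _ (mul_mem ha hb) with h | h
      · exact haO ((Subgroup.mul_mem_cancel_right _ hbO).mp h)
      · exact hbC ((Subgroup.mul_mem_cancel_left _ haC).mp h)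
    have : P0 = Cfsg.pCore p G := le_antisymm hPO (CfsgLib.Solvable.pCore_le_sylow P)
    rw [this]
    exact CfsgLib.Solvable.pCore_normal p
  have hdich : ∀ x ∈ P0, ¬ p ∣ n x → ∀ y ∈ P0, Commute y x := by
    intro x _ hpx y hy
    obtain ⟨S, -, hS⟩ := CfsgLib.GroupBasics.exists_sylow_le (p := p) hpx IsPGroup.of_bot bot_le
    have : P0 = (S : Subgroup G) := by
      have := P.unique_of_normal hPn
      rw [Subsingleton.elim S P]
    exact mem_cent.mp (hS (this ▸ hy))
  -- Sylow subgroups for other primes centralize `u`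
  obtain ⟨g₀, hg₀⟩ := hnoncentral u hu1
  have htop : Subgroup.centralizer ({u} : Set G) = ⊤ := by
    rw [eq_top_iff, ← CfsgLib.Solvable.iSup_sylow_eq_top (G := G)
      fun r => Classical.arbitrary (Sylow (r : ℕ) G)]
    refine iSup_le fun r => ?_
    have hr := Fact.mk (Nat.prime_of_mem_primeFactors r.2)
    set Q : Sylow (r : ℕ) G := Classical.arbitrary (Sylow (r : ℕ) G)
    by_cases hrp : (r : ℕ) = p
    · intro z hz
      obtain ⟨i, hi⟩ := Q.isPGroup' ⟨z, hz⟩
      exact huP (CfsgLib.PTools69.mem_sylow_of_normalizes P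
        ((Subgroup.normalizer_eq_top_iff.mpr hPn).ge (Subgroup.mem_top z))
        ⟨i, by rw [← hrp]; exact congrArg Subtype.val hi⟩)
    set CQ := Subgroup.centralizer ((Q : Subgroup G) : Set G) with hCQ
    have hfix : ∀ x ∈ P0, p ∣ n x → ∃ d ∈ P0, d * x * d⁻¹ ∈ CQ := by
      intro x hx hpx
      have hrx : ¬ (r : ℕ) ∣ n x := by
        have hsurj : Function.Surjective ((QuotientGroup.mk' P0).comp
            (Subgroup.centralizer ({x} : Set G)).subtype) := by
          intro z
          obtain ⟨g, rfl⟩ := QuotientGroup.mk'_surjective P0 z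
          obtain ⟨d, hd, he⟩ := hclass x hx hpx g
          refine ⟨⟨d⁻¹ * g, mem_cent.mpr ?_⟩, QuotientGroup.eq.mpr ?_⟩
          · rw [← mul_inv_eq_iff_eq_mul, show d⁻¹ * g * x * (d⁻¹ * g)⁻¹ = d⁻¹ * (g * x * g⁻¹) * d by
              group, he]
            group
          · have h1 := hPn.conj_mem _ hd g⁻¹
            simpa [mul_assoc] using h1
        have h1 : P0.index ∣ Nat.card (Subgroup.centralizer ({x} : Set G)) :=
          Subgroup.card_dvd_of_surjective _ hsurj
        intro hd
        have h2 := Subgroup.card_mul_index (Subgroup.centralizer ({x} : Set G))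
        rw [← Subgroup.card_mul_index P0] at h2
        obtain ⟨c, hc⟩ := h1
        have h3 : c * n x = Nat.card P0 := by
          apply Nat.eq_of_mul_eq_mul_left (Nat.pos_of_ne_zero P0.index_ne_zero_of_finite)
          rw [← mul_assoc, ← hc]
          exact h2.trans (mul_comm _ _)
        obtain ⟨e, he⟩ := P.isPGroup'.exists_card_eq
        exact hrp ((Nat.prime_dvd_prime_iff_eq hr.out hp.out).mp
          (hr.out.dvd_of_dvd_pow ((hd.trans (Dvd.intro_left c h3)).trans (dvd_of_eq he))))
      obtain ⟨S, -, hS⟩ := CfsgLib.GroupBasics.exists_sylow_le (p := (r : ℕ)) hrx IsPGroup.of_bot bot_le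
      obtain ⟨g, hg⟩ := MulAction.exists_smul_eq G S Q
      obtain ⟨d, hd, he⟩ := hclass x hx hpx g
      refine ⟨d, hd, ?_⟩
      rw [← he, hCQ, Subgroup.mem_centralizer_iff, ← hg]
      intro z hz
      rw [SetLike.mem_coe, Sylow.coe_subgroup_smul, Subgroup.mem_pointwise_smul_iff_inv_smul_mem,
        ← map_inv, MulAut.smul_def, MulAut.conj_apply, inv_inv] at hz
      have h1 := congrArg (fun y => g * y * g⁻¹) (mem_cent.mp (hS hz))
      simpa [mul_assoc] using h1
    have hgen : CQ.subgroupOf P0 ⊔ Subgroup.center P0 = ⊤ := by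
      refine CfsgLib.GroupBasics.eq_top_of_forall_conj_mem fun x => ?_
      by_cases hpx : p ∣ n x
      · obtain ⟨d, hd, hm⟩ := hfix x x.2 hpx
        exact ⟨⟨d, hd⟩, le_sup_left (b := Subgroup.center P0) hm⟩
      · refine ⟨1, le_sup_right (a := CQ.subgroupOf P0) ?_⟩
        rw [one_mul, inv_one, mul_one, Subgroup.mem_center_iff]
        exact fun y => Subtype.ext (hdich x x.2 hpx y y.2).eq
    intro z hz
    -- `z` fixes the displacement of `u`
    set m := u⁻¹ * (z * u * z⁻¹) with hm
    obtain ⟨k, hkU, hk⟩ := exists_conj_mul_eq hcop hB z 1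
    rw [one_mul, inv_one, mul_one, ← hm] at hk
    obtain ⟨d, hd, e, he, rfl⟩ := CfsgLib.Coprime.exists_mul_of_mem_sup
      (Subgroup.centralizer_le_normalizer _) (hUK hkU)
    have he' : e * v * e⁻¹ = v :=
      mul_inv_eq_iff_eq_mul.mpr (Subgroup.mem_centralizer_iff.mp he v hv).symm
    have hmd : m = ⁅d, v⁆ := by
      rw [show d * e * v * (d * e)⁻¹ = d * (e * v * e⁻¹) * d⁻¹ by group, he'] at hk
      rw [commutatorElement_def, ← hk]
      group
    have hmC : m ∈ CQ := by
      obtain ⟨d1, hd1, d2, hd2, hdd⟩ := CfsgLib.Coprime.exists_mul_of_mem_sup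
        ((Subgroup.center_le_centralizer _).trans (Subgroup.centralizer_le_normalizer _)) (hgen.ge (Subgroup.mem_top (⟨d, hd⟩ : P0)))
      obtain ⟨v1, hv1', v2, hv2, hvv⟩ := CfsgLib.Coprime.exists_mul_of_mem_sup
        ((Subgroup.center_le_centralizer _).trans (Subgroup.centralizer_le_normalizer _)) (hgen.ge (Subgroup.mem_top (⟨v, hv⟩ : P0)))
      have h1 : ⁅(⟨d, hd⟩ : P0), ⟨v, hv⟩⁆ = ⁅d1, v1⁆ := by
        rw [← hdd, ← hvv, commutatorElement_def, commutatorElement_def, mul_inv_rev, mul_inv_rev]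
        have c1 := Subgroup.mem_center_iff.mp hd2
        have c2 := Subgroup.mem_center_iff.mp hv2
        calc d1 * d2 * (v1 * v2) * (d2⁻¹ * d1⁻¹) * (v2⁻¹ * v1⁻¹)
            = d1 * (d2 * (v1 * v2) * d2⁻¹) * d1⁻¹ * (v2⁻¹ * v1⁻¹) := by group
          _ = d1 * (v1 * v2) * d1⁻¹ * (v2⁻¹ * v1⁻¹) := by rw [← c1, mul_inv_cancel_right]
          _ = d1 * v1 * (v2 * d1⁻¹) * (v2⁻¹ * v1⁻¹) := by group
          _ = d1 * v1 * d1⁻¹ * v1⁻¹ := by rw [← c2]; group
      have h1' : m = ((⁅d1, v1⁆ : P0) : G) := by rw [← h1, hmd]; rfl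
      rw [h1', commutatorElement_def]
      exact mul_mem (mul_mem (mul_mem hd1 hv1') (inv_mem hd1)) (inv_mem hv1')
    have hzu : ⁅z, u⁆ = m := by
      rw [commutatorElement_def, hm]
      have hc' : Commute (z * u * z⁻¹) u := mem_cent.mp (huP (hPn.conj_mem u hu z))
      exact hc'.inv_right.eq
    obtain ⟨i, hi⟩ := hpel m (hmd ▸ by
      rw [commutatorElement_def]
      exact mul_mem (mul_mem (mul_mem hd hv) (inv_mem hd)) (inv_mem hv))
    refine mem_cent.mpr (CfsgLib.LocalStructure.commute_of_stab (p := p) (k := i) ?_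
      (hzu ▸ hi) (hzu ▸ ?_)).eq
    · obtain ⟨j, hj⟩ := Q.isPGroup' ⟨z, hz⟩
      exact Nat.Coprime.of_dvd_left (orderOf_dvd_of_pow_eq_one (congrArg Subtype.val hj))
        (Nat.Coprime.pow_left _ ((Nat.coprime_primes hr.out hp.out).mpr hrp))
    · exact Subgroup.mem_centralizer_iff.mp hmC z hz
  exact hg₀ (conj_eq_of_mem_cent (htop.ge (Subgroup.mem_top g₀)))

/-- Two noncentral `p`-elements with coprime class sizes are linked by an element of order divisible
by `p`. -/
theorem exists_link {u v : G} (hu : ∃ i : ℕ, u ^ p ^ i = 1) (hv : ∃ i : ℕ, v ^ p ^ i = 1)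
    (hu1 : 1 < (Subgroup.centralizer ({u} : Set G)).index)
    (hv1 : 1 < (Subgroup.centralizer ({v} : Set G)).index)
    (hcop : (Subgroup.centralizer ({u} : Set G)).index.Coprime
      (Subgroup.centralizer ({v} : Set G)).index) :
    ∃ w : G, p ∣ orderOf w ∧
      ¬ (Subgroup.centralizer ({w} : Set G)).index.Coprime (Subgroup.centralizer ({u} : Set G)).index ∧
      ¬ (Subgroup.centralizer ({w} : Set G)).index.Coprime
        (Subgroup.centralizer ({v} : Set G)).index := by
  wlog hpu : ¬ p ∣ (Subgroup.centralizer ({u} : Set G)).index generalizing u v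
  · rw [not_not] at hpu
    obtain ⟨w, hw, h1, h2⟩ := this hv hu hv1 hu1 hcop.symm
      fun h => hp.out.ne_one (Nat.eq_one_of_dvd_coprimes hcop hpu h)
    exact ⟨w, hw, h2, h1⟩
  by_contra! H
  obtain ⟨P, huP', hP⟩ := CfsgLib.GroupBasics.exists_sylow_le hpu
    (CfsgLib.TwoSizes69.isPGroup_zpowers (r := p) hu)
    (Subgroup.zpowers_le.mpr (mem_cent.mpr rfl))
  obtain ⟨S, hS⟩ := (CfsgLib.TwoSizes69.isPGroup_zpowers (r := p) hv).exists_le_sylow
  obtain ⟨g, hg⟩ := MulAction.exists_smul_eq G S P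
  have hv' : g * v * g⁻¹ ∈ (P : Subgroup G) := by
    rw [← hg, Sylow.coe_subgroup_smul]
    exact Subgroup.smul_mem_pointwise_smul v (MulAut.conj g) _ (hS (Subgroup.mem_zpowers v))
  have hidx : (Subgroup.centralizer ({g * v * g⁻¹} : Set G)).index =
      (Subgroup.centralizer ({v} : Set G)).index := by
    rw [← CfsgLib.GroupBasics.card_carrier_eq_index_centralizer,
      ← CfsgLib.GroupBasics.card_carrier_eq_index_centralizer,
      show ConjClasses.mk (g * v * g⁻¹) = ConjClasses.mk v from
        ConjClasses.mk_eq_mk_iff_isConj.mpr (isConj_comm.mp (isConj_iff.mpr ⟨g, rfl⟩))]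
  refine false_of_isolated P hP (huP' (Subgroup.mem_zpowers u)) hv' hu1 (hidx.symm ▸ hv1)
    (hidx.symm ▸ hcop) fun w hw => ?_
  rw [hidx]
  exact or_iff_not_imp_left.mpr (H w hw)

end CfsgLib.SingularClassGraph
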